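import Mathlib
import Cfsg.Agent.Lib.PCount.Basic

/-! Kulakoff's theorem (with Berkovich's case `p = 2`), Miller's theorem and P. Hall's extension:
numbers of subgroups of order `p ^ a` modulo `p ^ 2`. -/

set_option autoImplicit false

open Subgroup Cfsg
open scoped Pointwise commutatorElement

namespace CfsgLib.PCount

universe u

variable {G : Type u} [Group G] [Finite G] {p : ℕ} [hp : Fact p.Prime]

theorem coprime_pred (k : ℕ) : (p ^ k).Coprime (p - 1) :=
  Nat.Coprime.pow_left _ ((Nat.coprime_self_sub_right hp.out.one_le).2 (Nat.coprime_one_right p))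

theorem dvd_of_dvd_mul_totient {a k c : ℕ} (h : p ^ (a + k) ∣ c * (p ^ (a + 1)).totient) :
    p ^ k ∣ c := by
  rw [Nat.totient_prime_pow_succ hp.out, pow_add, mul_left_comm] at h
  exact (coprime_pred k).dvd_of_dvd_mul_right
    (Nat.dvd_of_mul_dvd_mul_left (pow_pos hp.out.pos a) h)

theorem ncard_split {α : Type*} [Finite α] (A : Set α) (q : α → Prop) :
    A.ncard = {x | x ∈ A ∧ q x}.ncard + {x | x ∈ A ∧ ¬ q x}.ncard := by
  rw [← Set.ncard_union_eq (Set.disjoint_left.2 fun x a b => b.2 a.2)]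
  congr 1; ext x; simp only [Set.mem_union, Set.mem_setOf_eq]; tauto

/-- Miller: elements of order `p ^ a` in a group whose Sylow subgroup is in `Kc`. -/
theorem miller (P : Sylow p G) (h : Kc p P) {a : ℕ} (ha : 2 ≤ a) :
    p ^ a ∣ {x : G | orderOf x = p ^ a}.ncard := by
  obtain ⟨a, rfl⟩ : ∃ k, a = k + 1 := ⟨a - 1, by omega⟩
  have h1 := dvd_ncard_orderOf P.isPGroup' h ha
  have h2 := Count.ncard_orderOf_eq (G := P) (p ^ (a + 1)) fun _ => True
  have h3 := Count.ncard_orderOf_eq (G := G) (p ^ (a + 1)) fun _ => True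
  simp only [and_true] at h2 h3
  rw [h2] at h1
  have h4 := dvd_of_dvd_mul_totient h1
  have h5 := Count.ncard_subgroups_le (P : Subgroup G) fun H => IsCyclic H ∧ Nat.card H = p ^ (a + 1)
  have h6 : ∀ H : Subgroup P, IsCyclic (H.map (P : Subgroup G).subtype) ↔ IsCyclic H := fun H =>
    (H.equivMapOfInjective _ (P : Subgroup G).subtype_injective).isCyclic.symm
  simp only [h6, card_subtype] at h5
  have cj : ∀ g : G, ∀ H : Subgroup G, IsCyclic H ∧ Nat.card H = p ^ (a + 1) →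
      IsCyclic (MulAut.conj g • H : Subgroup G) ∧
        Nat.card (MulAut.conj g • H : Subgroup G) = p ^ (a + 1) := fun g H hH =>
    ⟨(equivSMul _ H).isCyclic.1 hH.1, (Coprime.card_conj_smul g H).trans hH.2⟩
  have h7 := Count.ncard_modEq_normalized P.isPGroup' {H | IsCyclic H ∧ Nat.card H = p ^ (a + 1)}
    fun g _ H hH => cj g H hH
  have h8 := Count.ncard_modEq_normalized P.isPGroup'
    {H | H ≤ P ∧ IsCyclic H ∧ Nat.card H = p ^ (a + 1)} fun g hg H hH =>
      ⟨Coprime.conj_smul_le_iff.2 fun x hx => mul_mem (mul_mem hg (hH.1 hx)) (inv_mem hg), cj g H hH.2⟩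
  have h9 : {H | H ∈ {H : Subgroup G | H ≤ P ∧ IsCyclic H ∧ Nat.card H = p ^ (a + 1)} ∧
      (P : Subgroup G) ≤ normalizer (H : Set G)} =
      {H | H ∈ {H : Subgroup G | IsCyclic H ∧ Nat.card H = p ^ (a + 1)} ∧
        (P : Subgroup G) ≤ normalizer (H : Set G)} :=
    Set.ext fun H => ⟨fun h => ⟨h.1.2, h.2⟩, fun h =>
      ⟨⟨Count.le_sylow_of_le_normalizer P (IsPGroup.of_card h.1.2) h.2, h.1⟩, h.2⟩⟩
  rw [h9, h5] at h8
  rw [h3, Nat.totient_prime_pow_succ hp.out]
  rw [pow_one] at h4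
  exact (pow_succ' p a).dvd.trans
    (mul_dvd_mul ((h8.trans h7.symm).dvd_iff dvd_rfl |>.1 h4) (dvd_mul_right _ _))

section
variable {Z : Subgroup G} [Z.Normal]

theorem inf_eq_bot_of_not_le (hZ : Nat.card Z = p) {H : Subgroup G} (h : ¬ Z ≤ H) : Z ⊓ H = ⊥ := by
  have : Fact (Nat.card Z).Prime := hZ ▸ hp
  rcases (H.subgroupOf Z).eq_bot_or_eq_top_of_prime_card with e | e
  · rw [inf_comm]; exact disjoint_iff.1 (subgroupOf_eq_bot.1 e)
  · exact absurd (subgroupOf_eq_top.1 e) h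

theorem card_eq_of_le (hZ : Nat.card Z = p) {H : Subgroup G} (h : Z ≤ H) :
    Nat.card H = p * Nat.card (H.map (QuotientGroup.mk' Z)) := by
  rw [Frob.card_eq_card_inf_ker_mul (QuotientGroup.mk' Z) H, QuotientGroup.ker_mk', inf_eq_left.2 h, hZ]

theorem card_eq_of_not_le (hZ : Nat.card Z = p) {H : Subgroup G} (h : ¬ Z ≤ H) :
    Nat.card H = Nat.card (H.map (QuotientGroup.mk' Z)) := by
  rw [Frob.card_eq_card_inf_ker_mul (QuotientGroup.mk' Z) H, QuotientGroup.ker_mk',
    inf_eq_bot_of_not_le hZ h, card_bot, one_mul]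

theorem dvd_ncard_avoid (hG : IsPGroup p G) (h : Kc p G) (hZ : Nat.card Z = p) (h' : Kc p (G ⧸ Z))
    {a : ℕ} (ha : 2 ≤ a) : p ^ (a + 1) ∣ {x : G | orderOf x = p ^ a ∧ ¬ Z ≤ zpowers x}.ncard := by
  obtain ⟨m, hm⟩ := hG.exists_card_eq
  obtain ⟨k, hk⟩ : ∃ k, m < a + k := ⟨m + 1, by omega⟩
  induction k generalizing a with
  | zero =>
    rw [Set.eq_empty_of_forall_notMem (s := {x : G | orderOf x = p ^ a ∧ ¬ Z ≤ zpowers x})
      fun x hx => ?_, Set.ncard_empty]
    · exact dvd_zero _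
    have := orderOf_dvd_natCard x
    rw [hx.1, hm, Nat.pow_dvd_pow_iff_le_right hp.out.one_lt] at this
    omega
  | succ k ih =>
    have h1 := (pow_dvd_pow p (Nat.le_succ _)).trans (ih (a := a + 1) (by omega) (by omega))
    have h2 := dvd_ncard_orderOf hG h (a := a + 1) (by omega)
    rw [ncard_split _ fun x => Z ≤ zpowers x] at h2
    have h3 := mul_dvd_mul_left p (dvd_ncard_orderOf (hG.to_quotient Z) h' ha)
    have h4 := QuotientGroup.card_preimage_mk Z {x : G ⧸ Z | orderOf x = p ^ a}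
    rw [Nat.card_coe_set_eq, Nat.card_coe_set_eq, hZ] at h4
    rw [← h4, ← pow_succ', ncard_split _ fun x => Z ≤ zpowers x] at h3
    have o : ∀ x : G, Nat.card ((zpowers x).map (QuotientGroup.mk' Z)) = orderOf (x : G ⧸ Z) :=
      fun x => by rw [MonoidHom.map_zpowers, Nat.card_zpowers]; rfl
    have e1 : {x : G | x ∈ QuotientGroup.mk ⁻¹' {x : G ⧸ Z | orderOf x = p ^ a} ∧ Z ≤ zpowers x} =
        {x | x ∈ {x : G | orderOf x = p ^ (a + 1)} ∧ Z ≤ zpowers x} :=
      Set.ext fun x => and_congr_left fun hx => by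
        have := card_eq_of_le hZ hx
        rw [o, Nat.card_zpowers] at this
        simp only [Set.mem_preimage, Set.mem_setOf_eq, this, pow_succ', Nat.mul_right_inj hp.out.ne_zero]
    have e2 : {x : G | x ∈ QuotientGroup.mk ⁻¹' {x : G ⧸ Z | orderOf x = p ^ a} ∧ ¬ Z ≤ zpowers x} =
        {x : G | orderOf x = p ^ a ∧ ¬ Z ≤ zpowers x} :=
      Set.ext fun x => and_congr_left fun hx => by
        have := card_eq_of_not_le hZ hx
        rw [o, Nat.card_zpowers] at this
        simp only [Set.mem_preimage, Set.mem_setOf_eq, this]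
    rw [e1, e2] at h3
    exact (Nat.dvd_add_right ((Nat.dvd_add_left h1).1 h2)).1 h3

theorem sq_dvd_card_hom {H Z : Type*} [Group H] [Finite H] [CommGroup Z] (hH : IsPGroup p H)
    (hn : ¬ IsCyclic H) (hZ : Nat.card Z = p) : p ^ 2 ∣ Nat.card (H →* Z) := by
  have : Finite Z := Nat.finite_of_card_ne_zero (hZ ▸ hp.out.ne_zero)
  have : Finite (H →* Z) := Finite.of_injective _ DFunLike.coe_injective
  have ex : ∀ M : Subgroup H, IsCoatom M → ∃ φ : H →* Z, φ.ker = M := fun M hM => by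
    have := PGroup.normal_of_isCoatom hH hM
    let e : H ⧸ M ≃* Z := mulEquivOfPrimeCardEq (PGroup.index_eq_prime_of_isCoatom hH hM) hZ
    refine ⟨e.toMonoidHom.comp (QuotientGroup.mk' M), ?_⟩
    rw [← MonoidHom.comap_ker, (MonoidHom.ker_eq_bot_iff _).2 e.injective, MonoidHom.comap_bot,
      QuotientGroup.ker_mk']
  have ne : ∀ g : H, zpowers g ≠ ⊤ := fun g e => hn (isCyclic_iff_exists_zpowers_eq_top.2 ⟨g, e⟩)
  obtain ⟨M, hM, -⟩ := PGroup.exists_isCoatom_ge (ne 1)
  obtain ⟨g, hg⟩ : ∃ g, g ∉ M := not_forall.1 fun h => hM.1 (eq_top_iff.2 fun g _ => h g)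
  obtain ⟨N, hN, hgN⟩ := PGroup.exists_isCoatom_ge (ne g)
  obtain ⟨φ, rfl⟩ := ex M hM
  obtain ⟨ψ, rfl⟩ := ex N hN
  have hP : IsPGroup p (H →* Z) := fun χ => ⟨1, MonoidHom.ext fun x => by
    rw [pow_one, MonoidHom.pow_apply, ← hZ, pow_card_eq_one']; rfl⟩
  have h1 : zpowers φ < ⊤ := lt_top_iff_ne_top.2 fun e => by
    obtain ⟨k, rfl⟩ := e.ge (mem_top ψ)
    have : φ.ker ≤ (φ ^ k).ker := fun x hx => by
      rw [MonoidHom.mem_ker] at hx ⊢
      rw [MonoidHom.zpow_apply, hx, one_zpow]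
    exact hg (((hM.le_iff.1 this).resolve_left hN.1).le (hgN (mem_zpowers g)))
  have h2 := PGroup.card_mul_prime_le_of_lt (hP.to_subgroup _) h1
  have h3 := PGroup.card_mul_prime_le_of_lt (hP.to_subgroup _) (bot_lt_iff_ne_bot.2
    (zpowers_ne_bot.2 fun e : φ = 1 => hM.1 (by rw [e, MonoidHom.ker_one])))
  obtain ⟨k, hk⟩ := hP.exists_card_eq
  rw [card_top, hk] at h2
  rw [card_bot, one_mul] at h3
  rw [hk]
  exact pow_dvd_pow p ((Nat.pow_le_pow_iff_right hp.out.one_lt).1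
    ((pow_two p).le.trans ((Nat.mul_le_mul_right p h3).trans h2)))

theorem sq_dvd_ncard_noncyclic (hG : IsPGroup p G) (hZ : Nat.card Z = p) (hc : Z ≤ center G) (n : ℕ) :
    p ^ 2 ∣ {H : Subgroup G | (Nat.card H = n ∧ ¬ Z ≤ H) ∧ ¬ IsCyclic H}.ncard := by
  refine dvd_ncard_of_fibers _ (· ⊔ Z) _ fun H hH => ?_
  have : IsMulCommutative Z := ⟨⟨fun a b => Subtype.ext (mem_center_iff.1 (hc b.2) a)⟩⟩
  letI : CommGroup Z := { (inferInstance : Group Z) with mul_comm := this.is_comm.comm }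
  have cm : ∀ (z : Z) (g : G), g * z = z * g := fun z => mem_center_iff.1 (hc z.2)
  let s : (H →* Z) → (H →* G) := fun φ =>
    { toFun := fun h => h * φ h
      map_one' := by simp
      map_mul' := fun a b => by
        rw [map_mul, Subgroup.coe_mul, Subgroup.coe_mul, mul_assoc, mul_assoc, ← mul_assoc (b : G),
          cm (φ a) b, mul_assoc] }
  have tr : ∀ {K : Subgroup G}, ¬ Z ≤ K → ∀ x ∈ Z, x ∈ K → x = 1 := fun h x a b =>
    mem_bot.1 ((inf_eq_bot_of_not_le hZ h).le ⟨a, b⟩)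
  have key : ∀ φ ψ a b, s φ a = s ψ b → a = b := fun φ ψ a b e => by
    have e' : (a : G) * φ a = b * ψ b := e
    have : ((b⁻¹ * a : H) : G) = (ψ b * (φ a)⁻¹ : Z) := by
      rw [Subgroup.coe_mul, Subgroup.coe_mul, Subgroup.coe_inv, Subgroup.coe_inv,
        inv_mul_eq_iff_eq_mul, ← mul_assoc, ← e', mul_inv_cancel_right]
    exact (inv_mul_eq_one.1 (Subtype.ext (tr hH.1.2 _ (this ▸ SetLike.coe_mem _) (b⁻¹ * a).2))).symm
  have eqv : ∀ φ, H ≃* (s φ).range := fun φ => MonoidHom.ofInjective (key φ φ)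
  refine (sq_dvd_card_hom (hG.to_subgroup H) hH.2 hZ).trans (dvd_of_eq ?_)
  rw [← Set.ncard_univ, ← Set.ncard_image_of_injective (f := fun φ => (s φ).range) _ fun φ ψ e => ?_]
  · congr 1; ext K
    constructor
    · rintro ⟨φ, -, rfl⟩
      refine ⟨⟨⟨(Nat.card_congr (eqv φ).toEquiv).symm.trans hH.1.1, fun h => ?_⟩,
        fun h => hH.2 ((eqv φ).isCyclic.2 h)⟩, le_antisymm (sup_le ?_ le_sup_right)
          (sup_le (fun h hh => ?_) le_sup_right)⟩
      · refine hH.1.2 fun z hz => ?_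
        obtain ⟨a, ha⟩ := h hz
        have : (a : G) = 1 := tr hH.1.2 _ ((Z.mul_mem_cancel_right (φ a).2).1
          ((show (a : G) * φ a = z from ha) ▸ hz)) a.2
        rw [← ha, show a = 1 from Subtype.ext this, map_one]; exact one_mem _
      · rintro _ ⟨a, rfl⟩
        exact mul_mem_sup a.2 (φ a).2
      · exact (Subgroup.mul_mem_cancel_right _ (mem_sup_right (φ ⟨h, hh⟩).2)).1
          (mem_sup_left ⟨⟨h, hh⟩, rfl⟩)
    · rintro ⟨hK, e⟩
      have ex : ∀ h : H, ∃ z : Z, (h : G) * z ∈ K := fun h => by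
        obtain ⟨k, hk, z, hz, e'⟩ := mem_sup_of_normal_right.1 (e.ge (mem_sup_left h.2))
        exact ⟨⟨z⁻¹, inv_mem hz⟩, by rw [← e', mul_inv_cancel_right]; exact hk⟩
      choose f hf using ex
      let φ : H →* Z := MonoidHom.mk' f fun a b => by
        refine inv_mul_eq_one.1 (Subtype.ext (tr hK.1.2 _ (SetLike.coe_mem _) ?_))
        have := mul_mem (inv_mem (hf (a * b))) (mul_mem (hf a) (hf b))
        rw [mul_assoc (a : G), ← mul_assoc (f a : G), ← cm (f a) b] at this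
        simpa [mul_assoc] using this
      refine ⟨φ, trivial, eq_of_le_of_card_ge ?_ ?_⟩
      · rintro _ ⟨a, rfl⟩; exact hf a
      · exact (hK.1.1.trans (hH.1.1.symm.trans (Nat.card_congr (eqv φ).toEquiv))).le
  · ext a
    obtain ⟨b, hb⟩ := e.le ⟨a, rfl⟩
    obtain rfl := key _ _ _ _ hb
    exact (mul_left_cancel (show (b : G) * ψ b = b * φ b from hb)).symm

end

theorem Kc.exists_quot (hG : IsPGroup p G) (h : Kc p G) (hc : ¬ Nat.card G ∣ p ^ 2) :
    ∃ Z : Subgroup G, ∃ _ : Z.Normal, Z ≤ center G ∧ Nat.card Z = p ∧ Kc p (G ⧸ Z) := by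
  have ex : ∀ N : Subgroup G, N.Normal → N ≠ ⊥ →
      ∃ Z : Subgroup G, Z.Normal ∧ Z ≤ center G ∧ Nat.card Z = p ∧ Z ≤ N := fun N _ hN => by
    obtain ⟨Z, z1, z2, z3⟩ := PGroup.exists_normal_le_card_eq hG N 1 (by
      simpa using PGroup.card_mul_prime_le_of_lt (hG.to_subgroup N) (bot_lt_iff_ne_bot.2 hN))
    rw [pow_one] at z3
    exact ⟨Z, z1, PGroup.le_center_of_card_eq_prime hG Z z3, z3, z2⟩
  have cy : ∀ (Z : Subgroup G) [Z.Normal], Z ≤ frattini G → ¬ IsCyclic (G ⧸ Z) := fun Z _ hZ _ =>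
    h.1 (Core.isCyclic_of_isCyclic_quotient_of_le_frattini Z hZ)
  by_cases h1 : commutator G = ⊥
  · have hc' : IsMulCommutative G := ⟨⟨fun a b => commutatorElement_eq_one_iff_mul_comm.1
      (mem_bot.1 (h1.le (commutator_mem_commutator (mem_top a) (mem_top b))))⟩⟩
    have cm : ∀ (Z : Subgroup G) [Z.Normal], IsMulCommutative (G ⧸ Z) := fun Z _ => ⟨⟨fun a b => by
      obtain ⟨a, rfl⟩ := QuotientGroup.mk_surjective a
      obtain ⟨b, rfl⟩ := QuotientGroup.mk_surjective b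
      exact congrArg QuotientGroup.mk (hc'.is_comm.comm a b)⟩⟩
    by_cases h2 : frattini G = ⊥
    · obtain ⟨Z, z1, z2, z3, -⟩ := ex ⊤ inferInstance fun e => hc (by
        rw [← card_top, e, card_bot]; exact one_dvd _)
      refine ⟨Z, z1, z2, z3, fun hh => hc ?_, fun _ _ => cm Z⟩
      obtain ⟨g, hg⟩ := hh.exists_ofOrder_eq_natCard
      obtain ⟨g, rfl⟩ := QuotientGroup.mk_surjective g
      rw [← Z.card_mul_index, z3, pow_two, index, ← hg]
      refine mul_dvd_mul_left p (orderOf_dvd_of_pow_eq_one ?_)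
      rw [← QuotientGroup.mk_pow, mem_bot.1 (h2.le (PGroup.pow_mem_frattini hG g))]; rfl
    · obtain ⟨Z, z1, z2, z3, z4⟩ := ex _ inferInstance h2
      exact ⟨Z, z1, z2, z3, cy Z z4, fun _ _ => cm Z⟩
  · obtain ⟨Z, z1, z2, z3, z4⟩ := ex _ inferInstance h1
    refine ⟨Z, z1, z2, z3, cy Z (z4.trans (PGroup.commutator_le_frattini hG)), fun h2 h4 => ?_⟩
    rw [commutator_def, ← map_top_of_surjective _ (QuotientGroup.mk'_surjective Z), ← map_commutator,
      index_map_eq _ (QuotientGroup.mk'_surjective Z) (by rw [QuotientGroup.ker_mk']; exact z4)] at h4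
    have := h.2 h2 h4
    exact absurd (commutator_eq_bot G) h1

theorem kulakoff (a : ℕ) : ∀ {G : Type u} [Group G] [Finite G], IsPGroup p G → Kc p G →
    p ^ (a + 2) ∣ Nat.card G →
    {H : Subgroup G | Nat.card H = p ^ (a + 1)}.ncard ≡ 1 + p [MOD p ^ 2] := by
  induction a with
  | zero =>
    intro G _ _ hG h _
    have h1 := sq_dvd hG h
    rw [Count.ncard_pow_prime_eq_one hp.out] at h1
    rw [zero_add, pow_one]
    refine Nat.ModEq.cancel_right_of_coprime (coprime_pred 2) (Nat.ModEq.add_right_cancel' 1 ?_)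
    refine (Nat.modEq_zero_iff_dvd.2 h1).trans (Nat.modEq_zero_iff_dvd.2 (dvd_of_eq ?_)).symm
    obtain ⟨q, rfl⟩ : ∃ q, p = q + 1 := ⟨p - 1, (Nat.succ_pred_eq_of_pos hp.out.pos).symm⟩
    rw [Nat.add_sub_cancel]; ring
  | succ a ih =>
    intro G _ _ hG h hd
    obtain ⟨Z, _, z1, z2, z3⟩ := h.exists_quot hG fun e => by
      have := (Nat.pow_dvd_pow_iff_le_right hp.out.one_lt).1 (hd.trans e)
      omega
    have h1 := ih (hG.to_quotient Z) z3 (by
      rw [← Z.card_mul_index, z2, show a + 1 + 2 = a + 2 + 1 by omega, pow_succ'] at hd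
      exact Nat.dvd_of_mul_dvd_mul_left hp.out.pos hd)
    have h2 := Count.ncard_subgroups_ge Z fun H => Nat.card H = p ^ (a + 1 + 1)
    have h3 : ∀ H : Subgroup (G ⧸ Z), Nat.card (H.comap (QuotientGroup.mk' Z)) = p ^ (a + 1 + 1) ↔
        Nat.card H = p ^ (a + 1) := fun H => by
      rw [card_eq_of_le z2 (QuotientGroup.le_comap_mk' Z H),
        map_comap_eq_self_of_surjective (QuotientGroup.mk'_surjective Z), pow_succ' p (a + 1),
        Nat.mul_right_inj hp.out.ne_zero]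
    simp only [h3] at h2
    have h4 := dvd_ncard_avoid hG h z2 z3 (a := a + 1 + 1) (by omega)
    rw [Count.ncard_orderOf_eq _ fun H => ¬ Z ≤ H] at h4
    have h5 := dvd_of_dvd_mul_totient (k := 2) h4
    have h6 := sq_dvd_ncard_noncyclic hG z2 z1 (p ^ (a + 1 + 1))
    rw [ncard_split _ fun H => Z ≤ H, ncard_split {H | _ ∧ ¬ Z ≤ H} fun H => IsCyclic H]
    refine (Nat.ModEq.add (b := 1 + p) ?_ (Nat.modEq_zero_iff_dvd.2 (dvd_add ?_ h6)))
    · rw [← h2] at h1
      simpa only [and_comm, Set.mem_setOf_eq] using h1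
    · refine h5.trans (dvd_of_eq ?_)
      congr 1; ext H; simp only [Set.mem_setOf_eq]; tauto

/-- P. Hall: the count modulo `p ^ 2` can be done in a Sylow subgroup. -/
theorem hall (P : Sylow p G) {a : ℕ} (hd : p ^ (a + 1) ∣ Nat.card G) :
    {H : Subgroup G | Nat.card H = p ^ a}.ncard ≡
      {H : Subgroup P | Nat.card H = p ^ a}.ncard [MOD p ^ 2] := by
  letI : MulAction P (Subgroup G) :=
    MulAction.compHom _ ((MulAut.conj : G →* MulAut G).comp (P : Subgroup G).subtype)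
  have sm : ∀ (g : P) (H : Subgroup G), g • H = MulAut.conj (g : G) • H := fun _ _ => rfl
  have h0 := Count.ncard_subgroups_le (P : Subgroup G) fun H => Nat.card H = p ^ a
  simp only [card_subtype] at h0
  set T := {H : Subgroup G | H ∈ {H : Subgroup G | Nat.card H = p ^ a} ∧ ¬ H ≤ P} with hT
  have w : ∀ H : Subgroup G, (MulAction.orbit P H).ncard = (normalizer (H : Set G) ⊓ P).relIndex P :=
    fun H => by
      rw [← MulAction.index_stabilizer, inf_relIndex_right, relIndex]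
      congr 1; ext g
      exact Coprime.mem_normalizer_iff_conj_smul_eq.symm
  have hTg : ∀ (g : P), ∀ H ∈ T, g • H ∈ T := fun g H hH =>
    ⟨(Coprime.card_conj_smul _ H).trans hH.1, fun h => hH.2 fun x hx => by
      have : (g : G) * x * (g : G)⁻¹ ∈ (P : Subgroup G) := Coprime.conj_smul_le_iff.1 h x hx
      rwa [Subgroup.mul_mem_cancel_right _ (inv_mem g.2), Subgroup.mul_mem_cancel_left _ g.2] at this⟩
  have nle : ∀ H ∈ T, ¬ (P : Subgroup G) ≤ normalizer (H : Set G) := fun H hH h =>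
    hH.2 (Count.le_sylow_of_le_normalizer P (IsPGroup.of_card hH.1) h)
  have h1 : p ^ 2 ∣ {H | H ∈ T ∧ ¬ (MulAction.orbit P H).ncard = p}.ncard := by
    refine dvd_ncard_of_fibers _ (MulAction.orbit P) _ fun H hH => ?_
    have e : {x | x ∈ {H | H ∈ T ∧ ¬ (MulAction.orbit P H).ncard = p} ∧
        MulAction.orbit P x = MulAction.orbit P H} = MulAction.orbit P H := by
      ext K
      refine ⟨fun h => MulAction.orbit_eq_iff.1 h.2, fun h => ?_⟩
      have e := MulAction.orbit_eq_iff.2 h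
      obtain ⟨g, rfl⟩ := h
      exact ⟨⟨hTg g H hH.1, by rw [e]; exact hH.2⟩, e⟩
    obtain ⟨k, hk⟩ := IsPGroup.card_orbit P.isPGroup' H
    rw [Nat.card_coe_set_eq] at hk
    have h2 := hH.2
    have h3 : (MulAction.orbit P H).ncard ≠ 1 := by
      rw [w, Ne, relIndex_eq_one]; exact fun h => nle H hH.1 (h.trans inf_le_left)
    rw [e, hk] at *
    refine pow_dvd_pow p ?_
    rcases k with _ | _ | k
    · exact absurd rfl h3
    · exact absurd (pow_one p) h2
    · omega
  have h2 : p * p ∣ {H | H ∈ T ∧ (MulAction.orbit P H).ncard = p}.ncard := by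
    have pq : ∀ H ∈ T, IsPGroup p (H ⊔ normalizer (H : Set G) ⊓ P : Subgroup G) := fun H hH =>
      IsPGroup.to_sup_of_normal_left' (IsPGroup.of_card hH.1) (P.isPGroup'.to_le inf_le_right)
        inf_le_left
    refine mul_dvd_ncard P.isPGroup' _ (fun H => H ⊔ normalizer (H : Set G) ⊓ P) p (fun g y => ?_)
      (fun H hH => ?_) fun H hH hf => ?_
    rotate_right
    · refine absurd (le_sup_left.trans (Count.le_sylow_of_le_normalizer P (pq H hH.1)
        fun g hg => Coprime.mem_normalizer_iff_conj_smul_eq.2 ?_)) hH.1.2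
      exact (sm ⟨g, hg⟩ _).symm.trans (hf ⟨g, hg⟩)
    · have eq : ∀ (g : P) (H : Subgroup G), g • H ⊔ normalizer ((g • H : Subgroup G) : Set G) ⊓ P =
          g • (H ⊔ normalizer (H : Set G) ⊓ P) := fun g H => by
        rw [sm, sm, Subgroup.smul_sup, Subgroup.smul_inf, Coprime.mem_normalizer_iff_conj_smul_eq.1
          (le_normalizer g.2 : (g : G) ∈ normalizer ((P : Subgroup G) : Set G))]
        congr 2
        simp only [Coprime.conj_smul_eq_map]
        exact (map_equiv_normalizer_eq H (MulAut.conj (g : G))).symm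
      rw [← Set.ncard_image_of_injective {x | x ∈ {H | H ∈ T ∧ (MulAction.orbit P H).ncard = p} ∧
        x ⊔ normalizer (x : Set G) ⊓ P = y} (MulAction.injective g)]
      congr 1; ext K
      constructor
      · rintro ⟨⟨a, b⟩, c⟩
        exact ⟨g⁻¹ • K, ⟨⟨hTg _ _ a, by rwa [MulAction.orbit_smul]⟩, by
          rw [eq, c, inv_smul_smul]⟩, smul_inv_smul g K⟩
      · rintro ⟨K, ⟨⟨a, b⟩, rfl⟩, rfl⟩
        exact ⟨⟨hTg _ _ a, by rwa [MulAction.orbit_smul]⟩, eq g K⟩
    have hQ := pq H hH.1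
    have hM := (w H).symm.trans hH.2
    set M := normalizer (H : Set G) ⊓ P with hMdef
    set Q := H ⊔ M with hQdef
    have hMP : M ≤ P := inf_le_right
    have two : ∀ L, M ≤ L → L ≤ P → L = M ∨ L = P := fun L =>
      Core.eq_or_eq_of_relIndex_prime (by rw [hM]; exact hp.out)
    have hQP : Q ⊓ P = M := (two _ (le_inf le_sup_right hMP) inf_le_right).resolve_right fun e =>
      hH.1.2 (le_sup_left.trans (P.is_maximal' hQ (inf_eq_right.1 e)).le)
    have cM := Coprime.card_mul_relIndex_of_le hMP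
    rw [hM] at cM
    have cQ : Nat.card Q ≤ Nat.card P := by
      obtain ⟨R, hR⟩ := hQ.exists_le_sylow
      exact (card_le_of_le hR).trans (Nat.card_congr (R.equiv P).toEquiv).le
    have pM : IsPGroup p M := P.isPGroup'.to_le hMP
    have cnt : ∀ L : Subgroup G, M ≤ L → p ^ a ∣ Nat.card L → {K | K ∈ {K : Subgroup G | K ≤ L ∧
        Nat.card K = p ^ a} ∧ M ≤ normalizer (K : Set G)}.ncard ≡ 1 [MOD p] := fun L hL hd =>
      (Count.ncard_modEq_normalized pM {K | K ≤ L ∧ Nat.card K = p ^ a} fun g hg K hK => ⟨Coprime.conj_smul_le_iff.2 fun x hx =>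
        mul_mem (mul_mem (hL hg) (hK.1 hx)) (inv_mem (hL hg)),
        (Coprime.card_conj_smul g K).trans hK.2⟩).symm.trans
        (Count.ncard_subgroups_le_modEq hp.out L hd)
    have c1 := cnt Q le_sup_right (hH.1.1.symm.dvd.trans (card_dvd_of_le le_sup_left))
    have c2 := cnt M le_rfl (Nat.dvd_of_mul_dvd_mul_right hp.out.pos (by
      rw [cM, ← pow_succ]; exact P.pow_dvd_card_of_pow_dvd_card hd))
    rw [ncard_split _ (· ≤ M)] at c1
    have e1 : {x | x ∈ {K | K ∈ {K : Subgroup G | K ≤ Q ∧ Nat.card K = p ^ a} ∧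
        M ≤ normalizer (K : Set G)} ∧ x ≤ M} = {K | K ∈ {K : Subgroup G | K ≤ M ∧
        Nat.card K = p ^ a} ∧ M ≤ normalizer (K : Set G)} := Set.ext fun K =>
      ⟨fun h => ⟨⟨h.2, h.1.1.2⟩, h.1.2⟩, fun h => ⟨⟨⟨h.1.1.trans le_sup_right, h.1.2⟩, h.2⟩, h.1.1⟩⟩
    rw [e1] at c1
    refine (Nat.modEq_zero_iff_dvd.1 (Nat.ModEq.add_left_cancel c2 c1)).trans (dvd_of_eq ?_)
    congr 1; ext K
    constructor
    · rintro ⟨⟨⟨a1, a2⟩, a3⟩, a4⟩
      have hK : K ∈ T := ⟨a2, fun h => a4 (hQP ▸ le_inf a1 h)⟩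
      have e : normalizer (K : Set G) ⊓ P = M :=
        (two _ (le_inf a3 hMP) inf_le_right).resolve_right fun e => nle K hK (inf_eq_right.1 e)
      refine ⟨⟨hK, by rw [w, e, hM]⟩, ?_⟩
      rw [e]
      refine eq_of_le_of_card_ge (sup_le a1 le_sup_right) (cQ.trans (cM.ge.trans
        (PGroup.card_mul_prime_le_of_lt (hQ.to_le (sup_le a1 le_sup_right)) ?_)))
      exact right_lt_sup.2 a4
    · rintro ⟨⟨a1, a2⟩, a3⟩
      have e : M = normalizer (K : Set G) ⊓ P := (Core.eq_or_eq_of_relIndex_prime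
        (by rw [← w, a2]; exact hp.out) (hQP ▸ le_inf (le_sup_right.trans a3.le) inf_le_right)
        hMP).resolve_right fun e => nle H hH.1 (e.ge.trans inf_le_left)
      exact ⟨⟨⟨le_sup_left.trans a3.le, a1.1⟩, e.le.trans inf_le_left⟩, fun h => a1.2 (h.trans hMP)⟩
  rw [ncard_split _ (· ≤ (P : Subgroup G)), ← h0, ← hT,
    ncard_split T fun H => (MulAction.orbit P H).ncard = p]
  refine Nat.ModEq.add (b := {H : Subgroup G | H ≤ P ∧ Nat.card H = p ^ a}.ncard) ?_
    (Nat.modEq_zero_iff_dvd.2 (dvd_add ((pow_two p).dvd.trans h2) h1))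
  simp only [and_comm, Set.mem_setOf_eq]; rfl

theorem miller' (P : Sylow p G) (h2 : p ≠ 2) (h : ¬ IsCyclic P) {s m : ℕ} (hs : 2 ≤ s)
    (hm : p.Coprime m) : p ^ s ∣ {x : G | orderOf x = p ^ s * m}.ncard := by
  letI : MulAction P G :=
    MulAction.compHom _ ((MulAut.conj : G →* MulAut G).comp (P : Subgroup G).subtype)
  have sm : ∀ (g : P) (x : G), g • x = g * x * (g : G)⁻¹ := fun _ _ => rfl
  have cop : (p ^ s).Coprime m := hm.pow_left s
  obtain ⟨u, u1, u2⟩ := Nat.chineseRemainder cop 0 1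
  have u1' := Nat.modEq_zero_iff_dvd.1 u1
  have dec : ∀ g : G, orderOf g = p ^ s * m →
      orderOf (g * (g ^ u)⁻¹) = p ^ s ∧ orderOf (g ^ u) = m := fun g hg => by
    have c : Commute (g * (g ^ u)⁻¹) (g ^ u) :=
      ((Commute.refl g).pow_right u).mul_left (Commute.refl _).inv_left
    have a1 : orderOf (g ^ u) ∣ m := orderOf_dvd_of_pow_eq_one (by
      rw [← pow_mul, ← orderOf_dvd_iff_pow_eq_one, hg]; exact mul_dvd_mul_right u1' m)
    have a2 : orderOf (g * (g ^ u)⁻¹) ∣ p ^ s := orderOf_dvd_of_pow_eq_one (by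
      rw [((Commute.refl g).pow_right u).inv_right.mul_pow, inv_pow, mul_inv_eq_one, ← pow_mul,
        pow_eq_pow_iff_modEq, hg, mul_comm u]
      simpa using (u2.mul_left' (c := p ^ s)).symm)
    have a3 := c.orderOf_mul_eq_mul_orderOf_of_coprime ((cop.coprime_dvd_left a2).coprime_dvd_right a1)
    rw [inv_mul_cancel_right, hg] at a3
    exact ⟨Nat.dvd_antisymm a2 ((cop.coprime_dvd_right a1).dvd_of_dvd_mul_right ((dvd_mul_right _ m).trans a3.dvd)),
      Nat.dvd_antisymm a1 ((cop.symm.coprime_dvd_right a2).dvd_of_dvd_mul_left ((dvd_mul_left m _).trans a3.dvd))⟩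
  have fib : ∀ a : G, orderOf a = p ^ s * m → {x | x ∈ {x : G | orderOf x = p ^ s * m} ∧
      x ^ u = a ^ u}.ncard = {x : centralizer ({a ^ u} : Set G) | orderOf x = p ^ s}.ncard := by
    intro a ha
    have oy := (dec a ha).2
    generalize a ^ u = y at oy
    rw [← Set.ncard_image_of_injective _ ((mul_left_injective y).comp Subtype.val_injective)]
    congr 1; ext x
    constructor
    · rintro ⟨h1, rfl⟩
      exact ⟨⟨x * (x ^ u)⁻¹, mem_centralizer_singleton_iff.2
        (((Commute.refl x).pow_right u).mul_left (Commute.refl _).inv_left)⟩,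
        (Subgroup.orderOf_mk _ _).trans (dec x h1).1, inv_mul_cancel_right _ _⟩
    · rintro ⟨x, hx, rfl⟩
      have c : Commute (x : G) y := mem_centralizer_singleton_iff.1 x.2
      have ox : orderOf (x : G) = p ^ s := (Subgroup.orderOf_coe x).trans hx
      refine ⟨(c.orderOf_mul_eq_mul_orderOf_of_coprime (by rwa [ox, oy])).trans (by rw [ox, oy]), ?_⟩
      change ((x : G) * y) ^ u = y
      rw [c.mul_pow, orderOf_dvd_iff_pow_eq_one.1 (ox.dvd.trans u1'), one_mul]
      exact (pow_eq_pow_iff_modEq.2 (oy ▸ u2)).trans (pow_one y)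
  obtain ⟨s, rfl⟩ : ∃ k, s = k + 1 := ⟨s - 1, by omega⟩
  refine (pow_succ p s).dvd.trans (mul_dvd_ncard P.isPGroup' _ (· ^ u) _ (fun g y => ?_)
    (fun a ha => ?_) fun a ha hf => ?_)
  · rw [← Set.ncard_image_of_injective {x | x ∈ {x : G | orderOf x = p ^ (s + 1) * m} ∧ x ^ u = y}
      (MulAut.conj (g : G)).injective]
    congr 1; ext x
    obtain ⟨x, rfl⟩ := (MulAut.conj (g : G)).surjective x
    rw [(MulAut.conj (g : G)).injective.mem_set_image]
    simp only [Set.mem_setOf_eq, MulEquiv.orderOf_eq, ← map_pow]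
    exact and_congr_right fun _ => (MulAut.conj (g : G)).injective.eq_iff
  · have := Count.ncard_orderOf_eq (G := centralizer ({a ^ u} : Set G)) (p ^ (s + 1)) fun _ => True
    simp only [and_true] at this
    rw [fib a ha, this, Nat.totient_prime_pow_succ hp.out]
    exact (dvd_mul_right _ _).mul_left _
  · have hP : (P : Subgroup G) ≤ centralizer ({a ^ u} : Set G) := fun g hg =>
      mem_centralizer_singleton_iff.2 (mul_inv_eq_iff_eq_mul.1 (hf ⟨g, hg⟩))
    rw [fib a ha, ← pow_succ]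
    exact miller (P.subtype hP) ⟨fun hc => h ((subgroupOfEquivOfLe hP).isCyclic.1 hc),
      fun e => absurd e h2⟩ hs

end CfsgLib.PCount
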